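import Groth.Agent.GammaDim.Lines
import Groth.Agent.PBReg.KFree
import Groth.Agent.QProjRows.Basic
import Groth.Agent.SymAlg.ProjProper
import Groth.Agent.Lambda.FilTools

/-!
The vanishing of the γ-filtration above the dimension.
-/

set_option autoImplicit false
set_option linter.style.haveILetI false
set_option linter.unusedSectionVars false
set_option backward.isDefEq.respectTransparency false
set_option backward.isDefEq.respectTransparency.types false
set_option maxHeartbeats 1000000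

universe u

open CategoryTheory CategoryTheory.Limits AlgebraicGeometry TopologicalSpace
open LambdaRing

noncomputable section

namespace Groth.Agent.GammaDim

attribute [local instance] SGA6Ext.kvbRing

/-- Noetherian, connected, with an ample module, of dimension at most `d`. -/
def Good (T : Scheme.{u}) (d : ℕ) : Prop :=
  IsNoetherian T ∧ ConnectedSpace ↥T ∧ (∃ L : T.Modules, CohB1.IsAmple L) ∧ DimLE T d

/-- A sum of classes of lines. -/
def IsLineSum (T : Scheme.{u}) (x : SGA6.Kvb T) : Prop :=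
  ∃ s : Multiset (SGA6.Kvb T),
    (∀ y ∈ s, ∃ L : T.Modules, FlatMod.IsFinLocFreeOfRank 1 L ∧ y = SGA6Ext.cls L) ∧ x = s.sum

/-- `T'` detects classes of `T` after multiplication by a product of `e` classes of lines. -/
def Detects (T T' : Scheme.{u}) (f : T' ⟶ T) (d e : ℕ) : Prop :=
  Good T' (d + e) ∧ ∃ w ∈ J T' ^ e, ∀ x : SGA6.Kvb T, w * SGA6Ext.pullK f x = 0 → x = 0

theorem map_J_le {T T' : Scheme.{u}} (f : T' ⟶ T) : (J T).map (KSplit.pullRing f) ≤ J T' := by
  rw [J, Ideal.map_span, Ideal.span_le]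
  rintro _ ⟨z, ⟨L, hL, rfl⟩, rfl⟩
  refine Ideal.subset_span ⟨_, Nagata.isFinLocFreeOfRank_pullback f hL, ?_⟩
  rw [map_sub, map_one, KSplit.pullRing_apply, SGA6Ext.pullK_cls f (SGA6Ext.finLocFree_of_rank hL)]

theorem IsLineSum.pull {T T' : Scheme.{u}} (f : T' ⟶ T) {x : SGA6.Kvb T} (hx : IsLineSum T x) :
    IsLineSum T' (SGA6Ext.pullK f x) := by
  obtain ⟨s, hs, rfl⟩ := hx
  refine ⟨s.map (KSplit.pullRing f), fun y hy => ?_, map_multiset_sum (KSplit.pullRing f) s⟩
  obtain ⟨y, hy', rfl⟩ := Multiset.mem_map.1 hy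
  obtain ⟨L, hL, rfl⟩ := hs y hy'
  exact ⟨_, Nagata.isFinLocFreeOfRank_pullback f hL, SGA6Ext.pullK_cls f (SGA6Ext.finLocFree_of_rank hL)⟩

theorem detects_id {T : Scheme.{u}} {d : ℕ} (h : Good T d) : Detects T T (𝟙 T) d 0 :=
  ⟨h, 1, by simp, fun x hx => by rwa [one_mul, KSplit.pullK_id] at hx⟩

theorem Detects.trans {T T' T'' : Scheme.{u}} {f : T' ⟶ T} {g : T'' ⟶ T'} {d e e' : ℕ} (h : Detects T T' f d e)
    (h' : Detects T' T'' g (d + e) e') : Detects T T'' (g ≫ f) d (e + e') := by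
  obtain ⟨-, w, hw, hdet⟩ := h
  obtain ⟨hG, w', hw', hdet'⟩ := h'
  refine ⟨by rwa [← add_assoc], w' * KSplit.pullRing g w, ?_, fun x hx => hdet x (hdet' _ ?_)⟩
  · rw [add_comm e e', pow_add]
    exact Ideal.mul_mem_mul hw' (Ideal.pow_right_mono (map_J_le g) e
      (by rw [← Ideal.map_pow]; exact Ideal.mem_map_of_mem _ hw))
  · rw [KSplit.pullK_comp] at hx
    rw [← KSplit.pullRing_apply g, map_mul, KSplit.pullRing_apply g (SGA6Ext.pullK f x), ← mul_assoc]
    exact hx

/-- One projective bundle. -/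
theorem detects_bun {n : ℕ} {T : Scheme.{u}} (B : PBReg.Bun n T) (hp : RelProj.IsProjective B.π) {d : ℕ}
    (hT : Good T d) : Detects T B.P B.π d n := by
  obtain ⟨hN, hC, hA, hd⟩ := hT
  obtain ⟨hq, hproper⟩ := SymAlg.isQuasiProjective_and_isProper hp
  obtain ⟨hN', hC'⟩ := KSplit.stable_noeth B hproper ⟨hN, hC⟩
  obtain ⟨-, -, L, hL⟩ := hq
  refine ⟨⟨hN', hC', QProjRows.exists_isAmple_of_isRelAmple B.π hA hL, dimLE_bun B hd⟩,
    (1 - SGA6Ext.cls (B.O (-1))) ^ n, Ideal.pow_mem_pow ?_ n, fun x hx => ?_⟩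
  · rw [← neg_sub]
    exact neg_mem (Ideal.subset_span ⟨_, CurveRR.isFinLocFreeOfRank_one (B.inv_O (-1)), rfl⟩)
  have hO : ∀ y : SGA6.Kvb B.P, SGA6Ext.cls (B.O (-1)) * y = B.twK (-1) y := by
    intro y
    have e : AddMonoidHom.mulLeft (SGA6Ext.cls (B.O (-1))) = B.twK (-1) := SGA6Ext.hom_ext_cls fun F hF => by
      rw [PBReg.twK_cls _ hF]
      exact SGA6Ext.mulK_cls (ResDesc.isFinLocFree_of_isInvertible (B.inv_O (-1))) hF
    exact DFunLike.congr_fun e y
  have hpow : ∀ i : ℕ, SGA6Ext.cls (B.O (-1)) ^ i * SGA6Ext.pullK B.π x = B.gen (-(i : ℤ)) x := by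
    intro i
    induction i with
    | zero => rw [pow_zero, one_mul, Nat.cast_zero, neg_zero, PBReg.gen_zero]
    | succ i ih => rw [pow_succ', mul_assoc, ih, hO, PBReg.twK_gen _ _ (-((i + 1 : ℕ) : ℤ)) (by push_cast; ring)]
  have hsum : (1 - SGA6Ext.cls (B.O (-1))) ^ n * SGA6Ext.pullK B.π x =
      ∑ i ∈ Finset.range (n + 1), ((-1 : ℤ) ^ i * n.choose i) • B.gen (-(i : ℤ)) x := by
    rw [sub_eq_neg_add, add_pow, Finset.sum_mul]
    refine Finset.sum_congr rfl fun i _ => ?_
    rw [one_pow, mul_one, neg_pow, zsmul_eq_mul, ← hpow]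
    push_cast
    ring
  rw [hx] at hsum
  have h := congrArg B.pushK hsum
  rw [map_zero, map_sum, Finset.sum_eq_single 0] at h
  · rw [map_zsmul, pow_zero, Nat.choose_zero_right, Nat.cast_one, one_mul, one_smul, Nat.cast_zero, neg_zero,
      PBReg.pushK_gen_zero] at h
    exact h.symm
  · intro i hi h0
    rw [map_zsmul, PBReg.pushK_gen_neg (Nat.one_le_iff_ne_zero.2 h0) (Nat.lt_succ_iff.1 (Finset.mem_range.1 hi)),
      smul_zero]
  · intro h0
    exact absurd (Finset.mem_range.2 (Nat.succ_pos n)) h0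

/-- A bundle becomes a sum of lines on a detecting tower. -/
theorem exists_split_one : ∀ (m : ℕ) (T : Scheme.{u}) (d : ℕ), Good T d → ∀ E : T.Modules,
    FlatMod.IsFinLocFreeOfRank m E →
      ∃ (T' : Scheme.{u}) (f : T' ⟶ T) (e : ℕ), Detects T T' f d e ∧ IsLineSum T' (SGA6Ext.pullK f (SGA6Ext.cls E)) := by
  intro m
  induction m with
  | zero =>
    intro T d hT E hE
    refine ⟨T, 𝟙 T, 0, detects_id hT, 0, fun y hy => absurd hy (Multiset.notMem_zero y), ?_⟩
    rw [KSplit.pullK_id, Multiset.sum_zero]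
    exact K0Dev.cl_zero (SGA6Ext.isZero_of_rank_zero hE)
  | succ m ih =>
    intro T d hT E hE
    obtain ⟨P, p, O, q, hB, hp, hproj⟩ := CycPB.exists_projBundle hE
    let X : PBReg.Bun m T := ⟨P, p, E, hE, O, q, hB⟩
    have hX := detects_bun X hproj hT
    haveI := hB.epi
    have hpE := Nagata.isFinLocFreeOfRank_pullback p hE
    have hK := CycPB.isFinLocFreeOfRank_kernel q hpE (ZeroSch.isInvertible_of_rankOne hB.invertible)
    obtain ⟨T', f, e, hdet, s, hs, hsum⟩ := ih P (d + m) hX.1 (kernel q) hK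
    refine ⟨T', f ≫ p, m + e, hX.trans hdet, SGA6Ext.cls ((Scheme.Modules.pullback f).obj O) ::ₘ s, ?_, ?_⟩
    · intro y hy
      rcases Multiset.mem_cons.1 hy with rfl | hy
      · exact ⟨_, Nagata.isFinLocFreeOfRank_pullback f hB.invertible, rfl⟩
      · exact hs y hy
    · rw [KSplit.pullK_comp, SGA6Ext.pullK_cls p (SGA6Ext.finLocFree_of_rank hE)]
      have hS : (ShortComplex.mk (kernel.ι q) q (kernel.condition q)).ShortExact := { exact := ShortComplex.exact_kernel q }
      have h : SGA6Ext.cls ((Scheme.Modules.pullback p).obj E) = SGA6Ext.cls (kernel q) + SGA6Ext.cls O :=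
        K0Res.clSub_add (fun M => FlatMod.IsFinLocFree M) hS (SGA6Ext.finLocFree_of_rank hK)
          (SGA6Ext.finLocFree_of_rank hpE) (SGA6Ext.finLocFree_of_rank hB.invertible)
      rw [h, map_add, hsum, SGA6Ext.pullK_cls f (SGA6Ext.finLocFree_of_rank hB.invertible), Multiset.sum_cons, add_comm]

/-- Finitely many bundles become sums of lines on one detecting tower. -/
theorem exists_split_list : ∀ (l : List ℕ) (T : Scheme.{u}) (d : ℕ), Good T d → ∀ xs : List (SGA6.Kvb T),
    List.Forall₂ (fun m x => ∃ E : T.Modules, FlatMod.IsFinLocFreeOfRank m E ∧ x = SGA6Ext.cls E) l xs →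
      ∃ (T' : Scheme.{u}) (f : T' ⟶ T) (e : ℕ), Detects T T' f d e ∧
        ∀ x ∈ xs, IsLineSum T' (SGA6Ext.pullK f x) := by
  intro l
  induction l with
  | nil =>
    intro T d hT xs h
    cases h
    exact ⟨T, 𝟙 T, 0, detects_id hT, fun x hx => absurd hx List.not_mem_nil⟩
  | cons m l ih =>
    intro T d hT xs h
    cases h with
    | @cons _ x _ xs hx hxs =>
      obtain ⟨E, hE, rfl⟩ := hx
      obtain ⟨T', f, e, hdet, hsum⟩ := exists_split_one m T d hT E hE
      obtain ⟨T'', g, e', hdet', hall⟩ := ih T' (d + e) hdet.1 (xs.map (SGA6Ext.pullK f)) (by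
        rw [List.forall₂_map_right_iff]
        exact hxs.imp fun m x ⟨F, hF, hx⟩ => ⟨_, Nagata.isFinLocFreeOfRank_pullback f hF,
          hx ▸ SGA6Ext.pullK_cls f (SGA6Ext.finLocFree_of_rank hF)⟩)
      refine ⟨T'', g ≫ f, e + e', hdet.trans hdet', fun x hx => ?_⟩
      rw [KSplit.pullK_comp]
      rcases List.mem_cons.1 hx with rfl | hx
      · exact hsum.pull g
      · exact hall _ (List.mem_map_of_mem hx)

section Fil

variable {T : Scheme.{u}} [ConnectedSpace ↥T]

attribute [local instance] SGA6Ext.kvbLam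

/-- Elements whose γ-operations lie in the powers of `J`. -/
def G : AddSubgroup (SGA6.Kvb T) where
  carrier := {x | ∀ r, gamma r x ∈ J T ^ r}
  zero_mem' r := by
    rcases r with _ | r
    · rw [pow_zero, Ideal.one_eq_top]; trivial
    · have := congrArg (PowerSeries.coeff (r + 1)) (Lambda.gammaSeries_zero (K := SGA6.Kvb T))
      rw [Lambda.gammaSeries, PowerSeries.coeff_mk, PowerSeries.coeff_one, if_neg r.succ_ne_zero] at this
      rw [this]; exact zero_mem _
  add_mem' {x y} hx hy r := by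
    rw [Lambda.gamma_add' r x y]
    refine Ideal.sum_mem _ fun i hi => ?_
    rw [show J T ^ r = J T ^ i * J T ^ (r - i) by
      rw [← pow_add, Nat.add_sub_cancel' (Nat.lt_succ_iff.1 (Finset.mem_range.1 hi))]]
    exact Ideal.mul_mem_mul (hx i) (hy _)
  neg_mem' {x} hx r := by
    induction r using Nat.strong_induction_on with
    | _ r ih =>
      rcases r with _ | r
      · rw [pow_zero, Ideal.one_eq_top]; trivial
      have h := Lambda.gamma_add' (r + 1) x (-x)
      rw [add_neg_cancel, Finset.sum_range_succ', Lambda.gamma_zero, one_mul, Nat.sub_zero] at h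
      have h0 : gamma (r + 1) (0 : SGA6.Kvb T) = 0 := by
        have := congrArg (PowerSeries.coeff (r + 1)) (Lambda.gammaSeries_zero (K := SGA6.Kvb T))
        rwa [Lambda.gammaSeries, PowerSeries.coeff_mk, PowerSeries.coeff_one, if_neg r.succ_ne_zero] at this
      rw [h0, eq_comm, add_comm, ← eq_neg_iff_add_eq_zero] at h
      rw [h]
      refine neg_mem (Ideal.sum_mem _ fun i hi => ?_)
      have hi' := Finset.mem_range.1 hi
      rw [show J T ^ (r + 1) = J T ^ (i + 1) * J T ^ (r + 1 - (i + 1)) by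
        rw [← pow_add, Nat.add_sub_cancel' (by omega)]]
      exact Ideal.mul_mem_mul (hx _) (ih _ (by omega))

theorem line_sub_one_mem_G {L : T.Modules} (hL : FlatMod.IsFinLocFreeOfRank 1 L) :
    SGA6Ext.cls L - 1 ∈ G (T := T) := by
  intro r
  let P := SGA6Ext.kvbPos T
  have hK := KSplit.isModel_kvb T
  have h1 : ∀ k, 2 ≤ k → LambdaOps.lam k (1 : SGA6.Kvb T) = 0 := fun k hk =>
    P.lam_eq_zero 1 (by simpa using P.natCast_mem 1 one_pos) k (by rw [map_one]; omega)
  have hy : ∀ k, 2 ≤ k → LambdaOps.lam k (SGA6Ext.cls L) = 0 := fun k hk =>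
    P.lam_eq_zero _ ((hK.mem_pos_iff _).2 ⟨1, L, le_rfl, hL, rfl⟩) k (by
      show (SGA6Ext.kvbPos T).aug (SGA6Ext.cls L) < (k : ℤ)
      rw [show (SGA6Ext.kvbPos T).aug (SGA6Ext.cls L) = 1 from (hK.aug_cl 1 L hL).trans Nat.cast_one]; omega)
  have h := congrArg (PowerSeries.coeff r) (Lambda.gammaSeries_line_sub_one h1 hy)
  rw [Lambda.gammaSeries, PowerSeries.coeff_mk] at h
  rw [h]
  match r with
  | 0 => rw [pow_zero, Ideal.one_eq_top]; trivial
  | 1 =>
    rw [pow_one]
    exact Ideal.subset_span ⟨L, hL, by simp [PowerSeries.coeff_one]⟩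
  | k + 2 => simp [PowerSeries.coeff_one]

theorem sum_sub_card_mem_G (s : Multiset (SGA6.Kvb T))
    (hs : ∀ y ∈ s, ∃ L : T.Modules, FlatMod.IsFinLocFreeOfRank 1 L ∧ y = SGA6Ext.cls L) :
    s.sum - (s.card : SGA6.Kvb T) ∈ G (T := T) ∧ (SGA6Ext.kvbPos T).aug s.sum = (s.card : ℤ) := by
  induction s using Multiset.induction with
  | empty =>
    rw [Multiset.sum_zero, Multiset.card_zero, Nat.cast_zero, Nat.cast_zero, sub_zero, map_zero]
    exact ⟨zero_mem _, rfl⟩
  | cons a s ih =>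
    obtain ⟨L, hL, rfl⟩ := hs a (Multiset.mem_cons_self a s)
    obtain ⟨h1, h2⟩ := ih fun y hy => hs y (Multiset.mem_cons_of_mem hy)
    rw [Multiset.sum_cons, Multiset.card_cons, map_add, h2]
    refine ⟨?_, ?_⟩
    · rw [Nat.cast_succ, show SGA6Ext.cls L + s.sum - ((s.card : SGA6.Kvb T) + 1) =
        (SGA6Ext.cls L - 1) + (s.sum - (s.card : SGA6.Kvb T)) by ring]
      exact add_mem (line_sub_one_mem_G hL) h1
    · rw [show (SGA6Ext.kvbPos T).aug (SGA6Ext.cls L) = 1 from
        ((KSplit.isModel_kvb T).aug_cl 1 L hL).trans Nat.cast_one]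
      push_cast
      ring

theorem lineSum_sub_mem_G {a b : SGA6.Kvb T} (ha : IsLineSum T a) (hb : IsLineSum T b)
    (h : (SGA6Ext.kvbPos T).aug (a - b) = 0) : a - b ∈ G (T := T) := by
  obtain ⟨s, hs, rfl⟩ := ha
  obtain ⟨t, ht, rfl⟩ := hb
  obtain ⟨h1, h2⟩ := sum_sub_card_mem_G s hs
  obtain ⟨h3, h4⟩ := sum_sub_card_mem_G t ht
  rw [map_sub, h2, h4, sub_eq_zero, Nat.cast_inj] at h
  rw [show s.sum - t.sum = (s.sum - (s.card : SGA6.Kvb T)) - (t.sum - (t.card : SGA6.Kvb T)) by rw [h]; ring]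
  exact sub_mem h1 h3

/-- The γ-filtration vanishes above the dimension. -/
theorem gFil_eq_zero {d : ℕ} (hT : Good T d) {x : SGA6.Kvb T} (hx : x ∈ KSplit.gFil T (d + 1)) : x = 0 := by
  let P := SGA6Ext.kvbPos T
  have hK := KSplit.isModel_kvb T
  refine Lambda.gammaFiltration_induction (P := P) (motive := fun y => y = 0) d.succ_ne_zero hx
    (fun l hl hsum => ?_) rfl (fun a b ha hb => by rw [ha, hb, add_zero]) (fun a ha => by rw [ha, neg_zero])
  choose a b ha hb hab using fun p : ℕ × SGA6.Kvb T => P.exists_sub p.2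
  let xs : List (SGA6.Kvb T) := l.map a ++ l.map b
  have hall : ∀ y ∈ xs, ∃ (m : ℕ) (E : T.Modules), FlatMod.IsFinLocFreeOfRank m E ∧ y = SGA6Ext.cls E := by
    intro y hy
    have hpos : y ∈ P.pos := by
      rcases List.mem_append.1 hy with h | h
      · obtain ⟨p, -, rfl⟩ := List.mem_map.1 h; exact ha p
      · obtain ⟨p, -, rfl⟩ := List.mem_map.1 h; exact hb p
    obtain ⟨m, E, -, hE, rfl⟩ := (hK.mem_pos_iff y).1 hpos
    exact ⟨m, E, hE, rfl⟩
  obtain ⟨ms, hms⟩ : ∃ ms : List ℕ, List.Forall₂ (fun m y => ∃ E : T.Modules,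
      FlatMod.IsFinLocFreeOfRank m E ∧ y = SGA6Ext.cls E) ms xs := by
    clear_value xs
    induction xs with
    | nil => exact ⟨[], List.Forall₂.nil⟩
    | cons y ys ih =>
      obtain ⟨m, hm⟩ := hall y List.mem_cons_self
      obtain ⟨ms, hms⟩ := ih fun z hz => hall z (List.mem_cons_of_mem _ hz)
      exact ⟨m :: ms, List.Forall₂.cons hm hms⟩
  obtain ⟨T', f, e, ⟨hG, w, hw, hdet⟩, hsplit⟩ := exists_split_list ms T d hT xs hms
  obtain ⟨hN', hC', ⟨L', hL'⟩, hd'⟩ := hG
  refine hdet _ ?_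
  have hmem : ∀ l' : List (ℕ × SGA6.Kvb T), (∀ p ∈ l', p ∈ l) →
      KSplit.pullRing f (l'.map fun p => gamma p.1 p.2).prod ∈ J T' ^ (l'.map Prod.fst).sum := by
    intro l'
    induction l' with
    | nil => intro _; rw [List.map_nil, List.map_nil, List.sum_nil, pow_zero, Ideal.one_eq_top]; trivial
    | cons p l' ih =>
      intro h
      have hp := h p List.mem_cons_self
      simp only [List.map_cons, List.prod_cons, List.sum_cons]
      rw [map_mul, pow_add, KSplit.map_gamma' (KSplit.pullRing f) (fun i y => KSplit.pullK_lamK f i y)]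
      refine Ideal.mul_mem_mul ?_ (ih fun q hq => h q (List.mem_cons_of_mem _ hq))
      have haug : (SGA6Ext.kvbPos T').aug (KSplit.pullRing f p.2) = 0 :=
        (KSplit.rankHom_pullK f p.2).trans (hl p hp)
      rw [hab p, map_sub] at haug ⊢
      exact lineSum_sub_mem_G (hsplit _ (List.mem_append_left _ (List.mem_map_of_mem hp)))
        (hsplit _ (List.mem_append_right _ (List.mem_map_of_mem hp))) haug p.1
  have hJ := J_pow_eq_bot hL' hd'
  rw [← Submodule.mem_bot (SGA6.Kvb T'), ← hJ]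
  refine Ideal.pow_le_pow_right (show d + e + 1 ≤ e + (l.map Prod.fst).sum by omega) ?_
  rw [pow_add]
  exact Ideal.mul_mem_mul hw (hmem l fun p hp => hp)

end Fil

end Groth.Agent.GammaDim
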