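import Groth.Agent.TMul.AmpleBasis
import Groth.Agent.TMul.GlobGen
import Groth.Agent.LocFree.Rank
import Groth.Agent.Intersect.Pos
import Mathlib.Topology.NoetherianSpace
import Mathlib.Topology.Sober

/-!
Sections of high twists avoiding finitely many points.
-/

set_option autoImplicit false
set_option linter.style.haveILetI false
set_option backward.isDefEq.respectTransparency false
set_option maxHeartbeats 1000000

universe u

open CategoryTheory CategoryTheory.Limits AlgebraicGeometry TopologicalSpace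
open TMul

namespace Groth.Agent.GammaDim

variable {X : Scheme.{u}}

/-- Finitely many points of a closed set specialise to all its points. -/
theorem exists_generic [IsNoetherian X] {Z : Set X} (hZ : IsClosed Z) :
    ∃ S : Finset X, (∀ s ∈ S, s ∈ Z) ∧ ∀ z ∈ Z, ∃ s ∈ S, s ⤳ z := by
  classical
  obtain ⟨T, hT, hcl, hirr, hTeq⟩ := TopologicalSpace.NoetherianSpace.exists_finite_set_isClosed_irreducible hZ
  let S : Finset X := hT.toFinset.attach.image fun t => (hirr t.1 (hT.mem_toFinset.1 t.2)).genericPoint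
  have hgen : ∀ t : hT.toFinset, (hirr t.1 (hT.mem_toFinset.1 t.2)).genericPoint ∈ (t.1 : Set X) := fun t => by
    have h := (hirr t.1 (hT.mem_toFinset.1 t.2)).isGenericPoint_genericPoint_closure.mem
    rwa [(hcl t.1 (hT.mem_toFinset.1 t.2)).closure_eq] at h
  refine ⟨S, fun s hs => ?_, fun z hz => ?_⟩
  · obtain ⟨t, -, rfl⟩ := Finset.mem_image.1 hs
    rw [show Z = ⋃₀ T from hTeq]
    exact ⟨t.1, hT.mem_toFinset.1 t.2, hgen t⟩
  · rw [hTeq] at hz
    obtain ⟨t, ht, hzt⟩ := hz
    refine ⟨_, Finset.mem_image.2 ⟨⟨t, hT.mem_toFinset.2 ht⟩, Finset.mem_attach _ _, rfl⟩, ?_⟩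
    exact (hirr t ht).isGenericPoint_genericPoint_closure.specializes (subset_closure hzt)

/-- A section of a high twist generating at finitely many given points. -/
theorem exists_avoid [IsNoetherian X] {L : X.Modules} (hL : CohB1.IsAmple L) {N : X.Modules}
    (hN : PicF.IsInvertible N) (S : Finset X) :
    ∃ n₀ : ℕ, ∀ a, n₀ ≤ a → ∃ s : Coh.structureModule X ⟶ CohB1.tensorMod N (CohB1.tensorPow L a),
      ∀ x ∈ S, x ∈ CohB1.genLocus _ s := by
  classical
  haveI : N.IsQuasicoherent := isQCoh_of_isInvertible hN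
  obtain ⟨n₁, hn₁⟩ := exists_forall_genOn hL (F := N)
    (LocFree.isFT_of_isFinLocFree (ResDesc.isFinLocFree_of_isInvertible hN))
  induction S using Finset.strongInduction with
  | _ S ih =>
    rcases S.eq_empty_or_nonempty with rfl | hne
    · exact ⟨0, fun a _ => ⟨0, fun x hx => absurd hx (Finset.notMem_empty x)⟩⟩
    letI := specializationOrder X
    obtain ⟨x₀, hx₀⟩ := S.exists_maximal hne
    have hmax : ∀ y ∈ S, y ⤳ x₀ → y = x₀ := fun y hy h => le_antisymm (hx₀.2 hy h) h
    obtain ⟨n₀, hn₀⟩ := ih (S.erase x₀) (Finset.erase_ssubset hx₀.1)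
    let U : X.Opens := ⟨(⋃ y ∈ S.erase x₀, closure {y})ᶜ,
      ((S.erase x₀).finite_toSet.isClosed_biUnion fun y _ => isClosed_closure).isOpen_compl⟩
    have hxU : x₀ ∈ U := by
      show x₀ ∈ (⋃ y ∈ S.erase x₀, closure {y})ᶜ
      simp only [Set.mem_compl_iff, Set.mem_iUnion, not_exists]
      intro y hy h
      exact Finset.ne_of_mem_erase hy (hmax y (Finset.mem_of_mem_erase hy) (specializes_iff_mem_closure.2 h))
    obtain ⟨m, t, hxt, htU, -⟩ := exists_mem_le hL hxU
    refine ⟨max n₀ (n₁ + (m + 1)), fun a ha => ?_⟩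
    obtain ⟨s, hs⟩ := hn₀ a (le_of_max_le_left ha)
    obtain ⟨b, rfl⟩ : ∃ b, a = b + (m + 1) := ⟨a - (m + 1), by omega⟩
    obtain ⟨D, hD, hxD, hgen⟩ := hn₁ b (by omega) x₀
    have hPb := isInvertible_tensorPow hL.1 b
    have hNb : PicF.IsInvertible (CohB1.tensorMod N (CohB1.tensorPow L b)) := isInvertible_tensorMod hN hPb
    obtain ⟨g, hg⟩ := exists_mem_genLocus_of_genOn hNb hD hgen hxD
    obtain ⟨e₂⟩ := nonempty_powAddIso L b (m + 1)
    let e := assocIso N (CohB1.tensorPow L b) (CohB1.tensorPow L (m + 1)) ≪≫ PicGrp.tensorModIso (Iso.refl N) e₂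
    let t' := SecTwist.tmulHom g t ≫ e.hom
    have hgl : CohB1.genLocus _ t' = CohB1.genLocus _ g ⊓ CohB1.genLocus _ t := by
      rw [genLocus_comp, genLocus_tmulHom hNb (isInvertible_tensorPow hL.1 _)]
    by_cases h₀ : x₀ ∈ CohB1.genLocus _ s
    · exact ⟨s, fun x hx => if h : x = x₀ then h ▸ h₀ else hs x (Finset.mem_erase.2 ⟨h, hx⟩)⟩
    have hinv : PicF.IsInvertible (CohB1.tensorMod N (CohB1.tensorPow L (b + (m + 1)))) :=
      isInvertible_tensorMod hN (isInvertible_tensorPow hL.1 _)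
    refine ⟨∑ i : Fin 2, ![s, t'] i, fun x hx => ?_⟩
    by_cases hx' : x = x₀
    · subst hx'
      refine mem_genLocus_sum _ hinv (j := 1) ?_ fun i hi => ?_
      · show x ∈ CohB1.genLocus _ t'
        rw [hgl]
        exact ⟨hg, hxt⟩
      · obtain rfl : i = 0 := by omega
        exact h₀
    · have hxS := Finset.mem_erase.2 ⟨hx', hx⟩
      refine mem_genLocus_sum _ hinv (j := 0) (hs x hxS) fun i hi => ?_
      obtain rfl : i = 1 := by omega
      show x ∉ CohB1.genLocus _ t'
      rw [hgl]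
      intro h
      exact htU h.2 (Set.mem_biUnion hxS (subset_closure rfl))

end Groth.Agent.GammaDim
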