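import Groth.Agent.KSplit.Tower
import Groth.Agent.PBReg.Main
import Groth.Agent.Unibranch.Chains
import Groth.Agent.Unibranch.FibreDim
import Groth.Agent.CartierDim.Basic
import Groth.Agent.S9576

/-!
Dimension of projective bundles, by chains of points.
-/

set_option autoImplicit false
set_option linter.style.haveILetI false
set_option backward.isDefEq.respectTransparency false
set_option maxHeartbeats 1000000

universe u

open CategoryTheory CategoryTheory.Limits AlgebraicGeometry TopologicalSpace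
open Groth.Agent.PBReg

namespace Groth.Agent.GammaDim

/-- A strict chain of specialisations. -/
def IsChain' {α : Type*} [TopologicalSpace α] {l : ℕ} (c : Fin (l + 1) → α) : Prop :=
  ∀ i : Fin l, c i.castSucc ⤳ c i.succ ∧ c i.castSucc ≠ c i.succ

/-- Chains have length at most `d`. -/
def DimLE (X : Scheme.{u}) (d : ℕ) : Prop := ∀ (l : ℕ) (c : Fin (l + 1) → X), IsChain' c → l ≤ d

theorem IsChain'.specializes_last {α : Type*} [TopologicalSpace α] {l : ℕ} {c : Fin (l + 1) → α} (hc : IsChain' c)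
    (j : Fin (l + 1)) : c j ⤳ c (Fin.last l) := by
  induction j using Fin.reverseInduction with
  | last => rfl
  | cast j ih => exact (hc j).1.trans ih

theorem dimLE_of_krull {X : Scheme.{u}} {d : ℕ} (h : topologicalKrullDim ↥X ≤ (d : WithBot ℕ∞)) : DimLE X d :=
  fun _ c hc => by exact_mod_cast (Unibranch.natCast_le_topologicalKrullDim c hc).trans h

theorem krull_le_of_embedding {Y : Scheme.{u}} {X : Scheme.{u}} {d : ℕ} (hX : DimLE X d) (f : Y → X)
    (hf : Topology.IsEmbedding f) : topologicalKrullDim ↥Y ≤ (d : WithBot ℕ∞) :=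
  Unibranch.topologicalKrullDim_le_natCast fun l c hc => hX l (f ∘ c) fun i =>
    ⟨(hc i).1.map hf.continuous, fun e => (hc i).2 (hf.injective e)⟩

theorem dimLE_bun {n : ℕ} {T : Scheme.{u}} [IsLocallyNoetherian T] (B : Bun n T) {d : ℕ} (hT : DimLE T d) :
    DimLE B.P (d + n) := by
  classical
  intro l c hc
  obtain ⟨V, hyV, -, ⟨κ⟩⟩ := exists_chart B (U := ⊤) (y := B.π (c (Fin.last l))) trivial
  haveI : IsNoetherianRing Γ(T, V) := IsLocallyNoetherian.component_noetherian ⟨V, κ.aff⟩
  have hR : ringKrullDim Γ(T, V) ≤ (d : WithBot ℕ∞) := by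
    rw [← PrimeSpectrum.topologicalKrullDim_eq_ringKrullDim]
    exact krull_le_of_embedding (Y := Spec Γ(T, V)) hT κ.aff.fromSpec κ.aff.fromSpec.isOpenEmbedding.isEmbedding
  have hm : ∀ j, c j ∈ Set.range κ.q := fun j => by
    rw [κ.range, Scheme.Opens.range_ι]
    exact (hc.specializes_last j).mem_open (B.π ⁻¹ᵁ V).2 hyV
  choose b hb using hm
  have hbc : IsChain' b := fun i => by
    refine ⟨κ.q.isOpenEmbedding.isInducing.specializes_iff.mp ?_, fun e => (hc i).2 (by rw [← hb, ← hb, e])⟩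
    rw [hb, hb]
    exact (hc i).1
  let 𝒜 := CohB1.polyGrading n Γ(T, V)
  obtain ⟨hcov, hbij⟩ := Groth.Agent.S9576.result n Γ(T, V)
  obtain ⟨i, hi⟩ := TopologicalSpace.Opens.mem_iSup.mp
    (show b (Fin.last l) ∈ ⨆ i, Proj.basicOpen 𝒜 (MvPolynomial.X i) from hcov ▸ trivial)
  have hX : (MvPolynomial.X i : MvPolynomial (Fin (n + 1)) Γ(T, V)) ∈ 𝒜 1 := MvPolynomial.isHomogeneous_X _ i
  let A := HomogeneousLocalization.Away 𝒜 (MvPolynomial.X i : MvPolynomial (Fin (n + 1)) Γ(T, V))
  have hdim : topologicalKrullDim ↥(Spec (CommRingCat.of A)) ≤ ((d + n : ℕ) : WithBot ℕ∞) := by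
    refine (PrimeSpectrum.topologicalKrullDim_eq_ringKrullDim _).trans_le ?_
    rw [← ringKrullDim_eq_of_ringEquiv (RingEquiv.ofBijective _ (hbij i)),
      MvPolynomial.ringKrullDim_of_isNoetherianRing, Nat.card_eq_fintype_card, Fintype.card_subtype_compl,
      Fintype.card_fin, Fintype.card_subtype_eq, Nat.add_sub_cancel, Nat.cast_add]
    exact add_le_add hR le_rfl
  have hmem : ∀ j, b j ∈ Set.range (Proj.awayι 𝒜 _ hX one_pos).base := fun j => by
    have : b j ∈ Proj.basicOpen 𝒜 (MvPolynomial.X i) :=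
      (hbc.specializes_last j).mem_open (Proj.basicOpen 𝒜 _).2 hi
    rwa [← Proj.opensRange_awayι 𝒜 _ hX one_pos] at this
  choose a ha using hmem
  refine dimLE_of_krull hdim l a fun j => ?_
  refine ⟨(Proj.awayι 𝒜 _ hX one_pos).isOpenEmbedding.isInducing.specializes_iff.mp ?_, fun e => (hbc j).2 ?_⟩
  · rw [ha, ha]; exact (hbc j).1
  · rw [← ha, ← ha, e]

end Groth.Agent.GammaDim
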