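import Groth.Agent.GammaDim.Avoid
import Groth.Agent.GammaDim.Dim
import Groth.Agent.K0ResLF.Nil
import Groth.Agent.KSplit.Gamma
import Groth.Agent.Intersect.Pos
import Groth.Agent.CurveRR.GlobGen

/-!
On a scheme of dimension `D` with an ample module, products of `D + 1` classes `L - 1` of lines vanish.
-/

set_option autoImplicit false
set_option linter.style.haveILetI false
set_option linter.unusedSectionVars false
set_option backward.isDefEq.respectTransparency false
set_option backward.isDefEq.respectTransparency.types false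
set_option maxHeartbeats 1000000

universe u

open CategoryTheory CategoryTheory.Limits AlgebraicGeometry TopologicalSpace
open LambdaRing

noncomputable section

namespace Groth.Agent.GammaDim

attribute [local instance] SGA6Ext.kvbRing

variable (X : Scheme.{u})

/-- The ideal of the classes `L - 1`. -/
def J : Ideal (SGA6.Kvb X) :=
  Ideal.span {z | ∃ L : X.Modules, FlatMod.IsFinLocFreeOfRank 1 L ∧ z = SGA6Ext.cls L - 1}

variable {X}

/-- Closed sets of codimension at least `j`, by chains. -/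
def Lo (D : ℕ) (Z : Set X) (j : ℕ) : Prop :=
  ∀ (l : ℕ) (c : Fin (l + 1) → X), (∀ i, c i ∈ Z) → IsChain' c → l + j ≤ D

/-- Classes of complexes of bundles exact outside small closed sets. -/
def S (D j : ℕ) : Ideal (SGA6.Kvb X) :=
  Ideal.span {y | ∃ (Z : Set X) (C : CochainComplex X.Modules ℤ) (m : ℕ), IsClosed Z ∧ Lo D Z j ∧
    K0ResLF.IsVB C m ∧ (∀ x, x ∉ Z → ((KFlat.stCx x).obj C).Acyclic) ∧ K0ResLF.chiC C m = y}

theorem one_mem_S {D : ℕ} (hD : DimLE X D) : (1 : SGA6.Kvb X) ∈ S (X := X) D 0 := by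
  let O := Coh.structureModule X
  let C := (HomologicalComplex.single X.Modules (ComplexShape.up ℤ) 0).obj O
  refine Ideal.subset_span ⟨Set.univ, C, 0, isClosed_univ, fun l c _ hc => by simpa using hD l c hc,
    ⟨fun i => ?_, fun i hi => HomologicalComplex.isZero_single_obj_X _ _ _ _ (by simp at hi; omega),
      fun i hi => HomologicalComplex.isZero_single_obj_X _ _ _ _ (by omega)⟩,
    fun x hx => absurd (Set.mem_univ x) hx, ?_⟩
  · by_cases hi : i = 0
    · subst hi
      exact DQCoh.isFinLocFree_of_iso' (HomologicalComplex.singleObjXSelf _ 0 O).symm (SGA6Ext.finLocFree_unit X)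
    · exact DQCoh.isFinLocFree_of_isZero (HomologicalComplex.isZero_single_obj_X _ _ _ _ hi)
  · rw [K0ResLF.chiC, Finset.sum_range_one, pow_zero, one_smul, Nat.cast_zero, neg_zero,
      show KRR.cl X (C.X 0) = KRR.cl X O from SGA6Ext.cls_iso (HomologicalComplex.singleObjXSelf _ 0 O)
        (DQCoh.isFinLocFree_of_iso' (HomologicalComplex.singleObjXSelf _ 0 O).symm (SGA6Ext.finLocFree_unit X))]
    rfl

variable [ConnectedSpace ↥X]

theorem step [IsNoetherian X] {L : X.Modules} (hL : CohB1.IsAmple L) {D j : ℕ} {N : X.Modules}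
    (hN : FlatMod.IsFinLocFreeOfRank 1 N) {y : SGA6.Kvb X}
    (hy : y ∈ S (X := X) D j) : (SGA6Ext.cls N - 1) * y ∈ S (X := X) D (j + 1) := by
  letI := SGA6Ext.kvbLam X
  have hK := KSplit.isModel_kvb X
  induction hy using Submodule.span_induction with
  | zero => rw [mul_zero]; exact zero_mem _
  | add a b _ _ ha hb => rw [mul_add]; exact add_mem ha hb
  | smul r a _ ha => rw [smul_eq_mul, mul_left_comm]; exact Ideal.mul_mem_left _ _ ha
  | mem y hy =>
    obtain ⟨Z, C, m, hZ, hLo, hC, hac, rfl⟩ := hy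
    obtain ⟨T, hTZ, hT⟩ := exists_generic hZ
    have hNi : PicF.IsInvertible N := ZeroSch.isInvertible_of_rankOne hN
    obtain ⟨n₁, h₁⟩ := exists_avoid hL hNi T
    obtain ⟨n₂, h₂⟩ := exists_avoid hL TMul.isInvertible_structureModule T
    obtain ⟨a, ha₁, ha₂⟩ : ∃ a, n₁ ≤ a ∧ n₂ ≤ a := ⟨max n₁ n₂, le_max_left _ _, le_max_right _ _⟩
    have hLa := TMul.isInvertible_tensorPow hL.1 a
    have hLf := ResDesc.isFinLocFree_of_isInvertible hLa
    have key : ∀ (M : X.Modules), PicF.IsInvertible M →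
        ∀ s : Coh.structureModule X ⟶ CohB1.tensorMod M (CohB1.tensorPow L a),
        (∀ x ∈ T, x ∈ CohB1.genLocus _ s) →
        (SGA6Ext.cls M * SGA6Ext.cls (CohB1.tensorPow L a) - 1) * K0ResLF.chiC C m ∈ S (X := X) D (j + 1) := by
      intro M hM s hs
      have hMf := ResDesc.isFinLocFree_of_isInvertible hM
      obtain ⟨C', hC', hχ, hac'⟩ := K0ResLF.exists_step hK (SGA6Ext.finLocFree_unit X)
        (SGA6Ext.isFinLocFree_tm hMf hLf) s hC
      refine Ideal.subset_span ⟨Z ∩ ((CohB1.genLocus _ s : X.Opens) : Set X)ᶜ, C', m + 1,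
        hZ.inter (CohB1.genLocus _ s).2.isClosed_compl, fun l c hc hch => ?_, hC', fun x hx => hac' x ?_, ?_⟩
      · obtain ⟨t, ht, htc⟩ := hT _ (hc 0).1
        have hne : t ≠ c 0 := fun e => (hc 0).2 (e ▸ hs t ht)
        have h := hLo (l + 1) (Fin.cons t c : Fin (l + 2) → X)
          (fun i => Fin.cases (hTZ t ht) (fun i => (hc i).1) i) (fun i => ?_)
        · omega
        refine Fin.cases ?_ (fun i => ?_) i
        · exact ⟨htc, hne⟩
        · simpa [Fin.castSucc_succ] using hch i
      · by_cases hxZ : x ∈ Z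
        · exact Or.inr (Intersect.isIso_stalk_of_mem_genLocus s (by_contra fun h => hx ⟨hxZ, h⟩))
        · exact Or.inl (hac x hxZ)
      · refine hχ.trans ?_
        show (SGA6Ext.cls (CohB1.tensorMod M (CohB1.tensorPow L a)) - SGA6Ext.cls (Coh.structureModule X)) * _ = _
        rw [show SGA6Ext.cls (CohB1.tensorMod M (CohB1.tensorPow L a)) = SGA6Ext.cls M * SGA6Ext.cls (CohB1.tensorPow L a)
          from (SGA6Ext.mulK_cls hMf hLf).symm]
        rfl
    obtain ⟨s₁, hs₁⟩ := h₁ a ha₁
    obtain ⟨s₂, hs₂⟩ := h₂ a ha₂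
    have e₁ := key N hNi s₁ hs₁
    have e₂ := key _ TMul.isInvertible_structureModule s₂ hs₂
    have hO : SGA6Ext.cls (Coh.structureModule X) = (1 : SGA6.Kvb X) := rfl
    rw [hO, one_mul] at e₂
    let u := SGA6Ext.cls (CohB1.tensorPow L a)
    have hu : IsUnit u := by
      have hpos : u ∈ (SGA6Ext.kvbPos X).pos :=
        (hK.mem_pos_iff _).2 ⟨1, _, le_rfl, CurveRR.isFinLocFreeOfRank_one hLa, rfl⟩
      have haug : (SGA6Ext.kvbPos X).aug u = 1 := (hK.aug_cl 1 _ (CurveRR.isFinLocFreeOfRank_one hLa)).trans Nat.cast_one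
      have h := (SGA6Ext.kvbPos X).isUnit_lam u hpos
      rwa [haug, Int.toNat_one, LambdaOps.lam_one] at h
    obtain ⟨v, hv⟩ := hu.exists_left_inv
    rw [show (SGA6Ext.cls N - 1) * K0ResLF.chiC C m =
      v * ((SGA6Ext.cls N * u - 1) * K0ResLF.chiC C m - (u - 1) * K0ResLF.chiC C m) by
        linear_combination (-(SGA6Ext.cls N - 1) * K0ResLF.chiC C m) * hv]
    exact Ideal.mul_mem_left _ _ (sub_mem e₁ e₂)

theorem J_pow_le [IsNoetherian X] {L : X.Modules} (hL : CohB1.IsAmple L) {D : ℕ} (hD : DimLE X D) :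
    ∀ j : ℕ, J X ^ j ≤ S (X := X) D j
  | 0 => by
    rw [pow_zero, Ideal.one_eq_top, (Ideal.eq_top_iff_one _).2 (one_mem_S hD)]
  | j + 1 => by
    rw [pow_succ', Ideal.mul_le]
    intro r hr y hy
    replace hy := J_pow_le hL hD j hy
    unfold J at hr
    induction hr using Submodule.span_induction with
    | mem r hr =>
      obtain ⟨N, hN, rfl⟩ := hr
      exact step hL hN hy
    | zero => rw [zero_mul]; exact zero_mem _
    | add a b _ _ ha hb => rw [add_mul]; exact add_mem ha hb
    | smul c a _ ha => rw [smul_eq_mul, mul_assoc]; exact Ideal.mul_mem_left _ _ ha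

theorem J_pow_eq_bot [IsNoetherian X] {L : X.Modules} (hL : CohB1.IsAmple L) {D : ℕ} (hD : DimLE X D) :
    J X ^ (D + 1) = ⊥ := by
  refine eq_bot_iff.2 ((J_pow_le hL hD (D + 1)).trans (Ideal.span_le.2 ?_))
  rintro y ⟨Z, C, m, -, hLo, hC, hac, rfl⟩
  refine (Submodule.mem_bot _).2 (K0ResLF.chiC_eq_zero hC ((KFlat.acyclic_iff_stalks C).2 fun x => hac x fun hx => ?_))
  have := hLo 0 (fun _ => x) (fun _ => hx) (fun i => i.elim0)
  omega

end Groth.Agent.GammaDim
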